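import Mathlib

/-!
# Classes of cycles in complexes of abelian groups
-/

set_option autoImplicit false
set_option backward.isDefEq.respectTransparency false

universe u

open CategoryTheory CategoryTheory.Limits

namespace Groth.Agent.HomAlg17

variable (K : HomologicalComplex AddCommGrpCat.{u} (ComplexShape.up ℤ))

/-- Cycles of degree `p`, as elements. -/
abbrev cyc (p : ℤ) : AddSubgroup (K.X p) := (K.d p (p + 1)).hom.ker

theorem exists_cycle {p : ℤ} (x : cyc K p) : ∃ z : K.cycles p, (K.iCycles p).hom z = x.1 :=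
  (ShortComplex.ab_exact_iff _).1 (ShortComplex.exact_of_f_is_kernel
    (ShortComplex.mk (K.iCycles p) (K.d p (p + 1)) (K.iCycles_d _ _))
    (K.cyclesIsKernel p (p + 1) ((ComplexShape.up ℤ).next_eq' (by simp)))) x.1 x.2

theorem iCycles_injective (p : ℤ) : Function.Injective (K.iCycles p).hom :=
  (AddCommGrpCat.mono_iff_injective _).1 inferInstance

/-- The class of a cycle. -/
noncomputable def cl (p : ℤ) : cyc K p →+ (K.homology p : Type u) :=
  AddMonoidHom.mk' (fun x => (K.homologyπ p).hom (exists_cycle K x).choose) fun x y => by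
    rw [← map_add]
    congr 1
    apply iCycles_injective K p
    rw [map_add, (exists_cycle K x).choose_spec, (exists_cycle K y).choose_spec, (exists_cycle K (x + y)).choose_spec]
    rfl

variable {K}

theorem cl_eq {p : ℤ} (x : cyc K p) (z : K.cycles p) (h : (K.iCycles p).hom z = x.1) :
    cl K p x = (K.homologyπ p).hom z :=
  congrArg (K.homologyπ p).hom (iCycles_injective K p ((exists_cycle K x).choose_spec.trans h.symm))

theorem cl_surjective (p : ℤ) : Function.Surjective (cl K p) := fun h => by
  obtain ⟨z, rfl⟩ := (AddCommGrpCat.epi_iff_surjective (K.homologyπ p)).1 inferInstance h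
  exact ⟨⟨(K.iCycles p).hom z, by
    show (K.d p (p + 1)).hom ((K.iCycles p).hom z) = 0
    rw [← ConcreteCategory.comp_apply, K.iCycles_d]
    rfl⟩, cl_eq _ z rfl⟩

theorem cl_eq_zero_iff {q p : ℤ} (hqp : q + 1 = p) (x : cyc K p) :
    cl K p x = 0 ↔ ∃ y : K.X q, (K.d q p).hom y = x.1 := by
  obtain ⟨z, hz⟩ := exists_cycle K x
  rw [cl_eq x z hz]
  constructor
  · intro h
    obtain ⟨y, hy⟩ := (ShortComplex.ab_exact_iff _).1 (ShortComplex.exact_of_g_is_cokernel
      (ShortComplex.mk (K.toCycles q p) (K.homologyπ p) (K.toCycles_comp_homologyπ q p))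
      (K.homologyIsCokernel q p ((ComplexShape.up ℤ).prev_eq' (by simpa using hqp)))) z h
    refine ⟨y, ?_⟩
    rw [← hz, ← hy]
    exact (congrArg (fun g => g.hom y) (K.toCycles_i q p)).symm
  · rintro ⟨y, hy⟩
    have : z = (K.toCycles q p).hom y := iCycles_injective K p (by
      rw [hz, ← hy]
      exact (congrArg (fun g => g.hom y) (K.toCycles_i q p)).symm)
    rw [this, ← ConcreteCategory.comp_apply, K.toCycles_comp_homologyπ]
    rfl

/-- A map of complexes on cycles. -/
noncomputable def cycMap {L : HomologicalComplex AddCommGrpCat.{u} (ComplexShape.up ℤ)} (f : K ⟶ L) (p : ℤ) :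
    cyc K p →+ cyc L p :=
  ((f.f p).hom.comp (cyc K p).subtype).codRestrict _ fun x => by
    show (L.d p (p + 1)).hom ((f.f p).hom x.1) = 0
    rw [← ConcreteCategory.comp_apply, f.comm, ConcreteCategory.comp_apply, show (K.d p (p + 1)).hom x.1 = 0 from x.2,
      map_zero]

theorem cl_map {L : HomologicalComplex AddCommGrpCat.{u} (ComplexShape.up ℤ)} (f : K ⟶ L) (p : ℤ) (x : cyc K p) :
    (HomologicalComplex.homologyMap f p).hom (cl K p x) = cl L p (cycMap f p x) := by
  obtain ⟨z, hz⟩ := exists_cycle K x
  rw [cl_eq x z hz, cl_eq (cycMap f p x) ((HomologicalComplex.cyclesMap f p).hom z) ?_]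
  · exact congrArg (fun g => g.hom z) (HomologicalComplex.homologyπ_naturality f p)
  · show (L.iCycles p).hom ((HomologicalComplex.cyclesMap f p).hom z) = (f.f p).hom x.1
    rw [← hz]
    exact congrArg (fun g => g.hom z) (HomologicalComplex.cyclesMap_i f p)

end Groth.Agent.HomAlg17
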