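import Mathlib.Algebra.Homology.DerivedCategory.TStructure
import Mathlib.Algebra.Homology.DerivedCategory.Fractions
import Mathlib.Data.Int.Interval
import Mathlib.Data.Countable.Basic

/-!
# Countability of bounded derived categories
-/

set_option autoImplicit false
set_option backward.isDefEq.respectTransparency false
set_option linter.style.haveILetI false

universe w v u

open CategoryTheory CategoryTheory.Limits ZeroObject

namespace Groth.Agent.HomAlg17.CountDer

variable {A : Type u} [Category.{v} A] [Abelian A] (e : ℕ → A)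

/-- The code of a bounded complex with terms among the `e n`. -/
abbrev Code : Type v :=
  Σ (ab : ℤ × ℤ) (n : Finset.Icc ab.1 ab.2 → ℕ), ∀ i j : Finset.Icc ab.1 ab.2, e (n i) ⟶ e (n j)

/-- A complex realises a code. -/
def Realizes (c : Code e) (K : CochainComplex A ℤ) : Prop :=
  K.IsStrictlyGE c.1.1 ∧ K.IsStrictlyLE c.1.2 ∧ ∃ φ : ∀ i : Finset.Icc c.1.1 c.1.2, K.X i.1 ≅ e (c.2.1 i),
    ∀ i j : Finset.Icc c.1.1 c.1.2, (φ i).inv ≫ K.d i.1 j.1 ≫ (φ j).hom = c.2.2 i j

theorem isZero_X {K : CochainComplex A ℤ} {a b : ℤ} [K.IsStrictlyGE a] [K.IsStrictlyLE b] {i : ℤ}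
    (hi : i ∉ Finset.Icc a b) : IsZero (K.X i) := by
  rw [Finset.mem_Icc, not_and_or, not_le, not_le] at hi
  rcases hi with h | h
  · exact CochainComplex.isZero_of_isStrictlyGE K a i h
  · exact CochainComplex.isZero_of_isStrictlyLE K b i h

theorem nonempty_iso_of_realizes (c : Code e) {K L : CochainComplex A ℤ} (hK : Realizes e c K) (hL : Realizes e c L) :
    Nonempty (K ≅ L) := by
  classical
  obtain ⟨hK1, hK2, φ, hφ⟩ := hK
  obtain ⟨hL1, hL2, ψ, hψ⟩ := hL
  haveI := hK1; haveI := hK2; haveI := hL1; haveI := hL2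
  refine ⟨HomologicalComplex.Hom.isoOfComponents (fun i => if h : i ∈ Finset.Icc c.1.1 c.1.2 then φ ⟨i, h⟩ ≪≫ (ψ ⟨i, h⟩).symm
    else (isZero_X h).iso (isZero_X h)) fun i j _ => ?_⟩
  by_cases hi : i ∈ Finset.Icc c.1.1 c.1.2
  · by_cases hj : j ∈ Finset.Icc c.1.1 c.1.2
    · rw [dif_pos hi, dif_pos hj]
      have h := (hφ ⟨i, hi⟩ ⟨j, hj⟩).trans (hψ ⟨i, hi⟩ ⟨j, hj⟩).symm
      simp only [Iso.trans_hom, Iso.symm_hom, Category.assoc]
      rw [← cancel_epi (φ ⟨i, hi⟩).inv, ← cancel_mono (ψ ⟨j, hj⟩).hom]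
      simp only [Category.assoc, Iso.inv_hom_id_assoc, Iso.inv_hom_id, Category.comp_id]
      exact h.symm
    · exact (isZero_X hj).eq_of_tgt _ _
  · exact (isZero_X hi).eq_of_src _ _

variable {e} (he : ∀ X : A, ∃ n : ℕ, Nonempty (X ≅ e n))

include he in
theorem exists_code (K : CochainComplex A ℤ) (a b : ℤ) [K.IsStrictlyGE a] [K.IsStrictlyLE b] :
    ∃ c : Code e, Realizes e c K := by
  choose n hn using fun i : Finset.Icc a b => he (K.X i.1)
  let φ := fun i => (hn i).some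
  exact ⟨⟨(a, b), n, fun i j => (φ i).inv ≫ K.d i.1 j.1 ≫ (φ j).hom⟩, inferInstanceAs (K.IsStrictlyGE a),
    inferInstanceAs (K.IsStrictlyLE b), φ, fun i j => rfl⟩

variable (e) in
/-- A representative of a code. -/
noncomputable def rep (c : Code e) : CochainComplex A ℤ := by
  classical exact if h : ∃ K, Realizes e c K then h.choose else 0

include he in
theorem exists_rep_iso (K : CochainComplex A ℤ) (a b : ℤ) [K.IsStrictlyGE a] [K.IsStrictlyLE b] :
    ∃ c : Code e, Nonempty (K ≅ rep e c) := by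
  classical
  obtain ⟨c, hc⟩ := exists_code he K a b
  refine ⟨c, nonempty_iso_of_realizes e c hc ?_⟩
  rw [rep, dif_pos ⟨K, hc⟩]
  exact Exists.choose_spec _

variable (hhom : ∀ X Y : A, Countable (X ⟶ Y))

include hhom

variable (e) in
theorem countable_code : Countable (Code e) := by
  haveI := hhom
  infer_instance

theorem countable_hom (K L : CochainComplex A ℤ) (a b : ℤ) [K.IsStrictlyGE a] [K.IsStrictlyLE b] :
    Countable (K ⟶ L) := by
  haveI := hhom
  refine Function.Injective.countable (f := fun (g : K ⟶ L) (i : Finset.Icc a b) => g.f i.1) fun g g' h => ?_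
  ext i
  by_cases hi : i ∈ Finset.Icc a b
  · exact congrFun h ⟨i, hi⟩
  · exact (isZero_X hi).eq_of_src _ _

variable [HasDerivedCategory.{w} A]

include he in
theorem countable_hom_Q (K L : CochainComplex A ℤ) (a b : ℤ) [K.IsStrictlyGE a] [K.IsStrictlyLE b] [L.IsStrictlyGE a] :
    Countable (DerivedCategory.Q.obj K ⟶ DerivedCategory.Q.obj L) := by
  classical
  haveI := countable_code e hhom
  let T := {c : Code e // c.1 = (a, b) ∧ ∃ M, Realizes e c M}
  have hT : ∀ c : T, (rep e c.1).IsStrictlyGE a ∧ (rep e c.1).IsStrictlyLE b := fun c => by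
    have h : Realizes e c.1 (rep e c.1) := by rw [rep, dif_pos c.2.2]; exact Exists.choose_spec _
    have h1 := h.1; have h2 := h.2.1
    rw [c.2.1] at h1 h2
    exact ⟨h1, h2⟩
  haveI : ∀ c : T, Countable (rep e c.1 ⟶ K) := fun c =>
    haveI := (hT c).1; haveI := (hT c).2; countable_hom hhom _ K a b
  haveI : ∀ c : T, Countable (rep e c.1 ⟶ L) := fun c =>
    haveI := (hT c).1; haveI := (hT c).2; countable_hom hhom _ L a b
  let F : (Σ c : T, (rep e c.1 ⟶ K) × (rep e c.1 ⟶ L)) → (DerivedCategory.Q.obj K ⟶ DerivedCategory.Q.obj L) :=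
    fun x => if _ : IsIso (DerivedCategory.Q.map x.2.1) then inv (DerivedCategory.Q.map x.2.1) ≫ DerivedCategory.Q.map x.2.2
      else 0
  refine Function.Surjective.countable (f := F) fun f => ?_
  obtain ⟨M, hM1, hM2, s, hs, g, hf⟩ := DerivedCategory.right_fac_of_isStrictlyLE_of_isStrictlyGE a b f
  obtain ⟨c, ⟨i⟩⟩ : ∃ c : T, Nonempty (M ≅ rep e c.1) := by
    choose m hm using fun i : Finset.Icc a b => he (M.X i.1)
    let φ := fun i => (hm i).some
    have hc : Realizes e ⟨(a, b), m, fun i j => (φ i).inv ≫ M.d i.1 j.1 ≫ (φ j).hom⟩ M := ⟨hM1, hM2, φ, fun i j => rfl⟩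
    exact ⟨⟨_, rfl, M, hc⟩, nonempty_iso_of_realizes e _ hc (by rw [rep, dif_pos ⟨M, hc⟩]; exact Exists.choose_spec _)⟩
  haveI : IsIso (DerivedCategory.Q.map (i.inv ≫ s)) := by rw [Functor.map_comp]; infer_instance
  refine ⟨⟨c, i.inv ≫ s, i.inv ≫ g⟩, ?_⟩
  show dite _ _ _ = f
  rw [dif_pos ‹IsIso _›, hf, IsIso.inv_comp_eq]
  simp

include he in
theorem bounded_countable :
    (∀ K L : DerivedCategory.Bounded A, Countable (K ⟶ L)) ∧
      ∃ f : ℕ → DerivedCategory.Bounded A, ∀ K : DerivedCategory.Bounded A, ∃ n : ℕ, Nonempty (K ≅ f n) := by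
  classical
  have hrep : ∀ K : DerivedCategory.Bounded A, ∃ (a b : ℤ) (M : CochainComplex A ℤ) (_ : M.IsStrictlyGE a)
      (_ : M.IsStrictlyLE b), Nonempty (K.obj ≅ DerivedCategory.Q.obj M) := fun K => by
    obtain ⟨⟨a, ha⟩, b, hb⟩ := K.property
    haveI : K.obj.IsGE a := ha
    haveI : K.obj.IsLE b := hb
    obtain ⟨M, h1, h2, hM⟩ := DerivedCategory.exists_iso_Q_obj_of_isGE_of_isLE K.obj a b
    exact ⟨a, b, M, h1, h2, hM⟩
  refine ⟨fun K L => ?_, ?_⟩
  · obtain ⟨a, b, M, h1, h2, ⟨i⟩⟩ := hrep K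
    obtain ⟨a', b', N, h1', h2', ⟨i'⟩⟩ := hrep L
    haveI := h1; haveI := h2; haveI := h1'
    haveI : M.IsStrictlyGE (min a a') := M.isStrictlyGE_of_ge _ a (min_le_left _ _)
    haveI : N.IsStrictlyGE (min a a') := N.isStrictlyGE_of_ge _ a' (min_le_right _ _)
    haveI := countable_hom_Q he hhom M N (min a a') b
    exact Function.Injective.countable (f := fun g : K ⟶ L => i.inv ≫ g.hom ≫ i'.hom) fun g g' h => by
      apply ObjectProperty.hom_ext
      simpa using h
  · haveI := countable_code e hhom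
    haveI : Nonempty (DerivedCategory.Bounded A) := ⟨⟨(DerivedCategory.singleFunctor A 0).obj 0, ⟨⟨0, inferInstance⟩, ⟨0, inferInstance⟩⟩⟩⟩
    let T := {c : Code e // ∃ K : DerivedCategory.Bounded A, Nonempty (K.obj ≅ DerivedCategory.Q.obj (rep e c))}
    let r : Option T → DerivedCategory.Bounded A := fun c => c.elim (Classical.arbitrary _) fun c => c.2.choose
    obtain ⟨g, hg⟩ := exists_surjective_nat (Option T)
    refine ⟨r ∘ g, fun K => ?_⟩
    obtain ⟨a, b, M, h1, h2, ⟨i⟩⟩ := hrep K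
    obtain ⟨c, ⟨ic⟩⟩ := exists_rep_iso he M a b
    have hc : ∃ L : DerivedCategory.Bounded A, Nonempty (L.obj ≅ DerivedCategory.Q.obj (rep e c)) :=
      ⟨K, ⟨i ≪≫ DerivedCategory.Q.mapIso ic⟩⟩
    obtain ⟨n, hn⟩ := hg (some ⟨c, hc⟩)
    refine ⟨n, ?_⟩
    obtain ⟨j⟩ := hc.choose_spec
    rw [Function.comp_apply, hn]
    exact ⟨ObjectProperty.isoMk _ (i ≪≫ DerivedCategory.Q.mapIso ic ≪≫ j.symm)⟩

end Groth.Agent.HomAlg17.CountDer
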