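import Groth.Prelude.Def_SpSeq
import Groth.Agent.CommAlg4.InjHorseshoe
import Mathlib.CategoryTheory.Abelian.Injective.Resolution

/-!
# Filtered injective resolutions of finitely filtered objects
-/

set_option autoImplicit false
set_option backward.isDefEq.respectTransparency false
set_option linter.style.haveILetI false
set_option linter.unusedSectionVars false

universe v u

open CategoryTheory CategoryTheory.Limits

namespace Groth.Agent.HomAlg17.FilRes

variable {C : Type u} [Category.{v} C] [Abelian C]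

/-- The resolution of a zero object by itself. -/
noncomputable def zeroRes {A : C} (h : IsZero A) : InjectiveResolution A where
  cocomplex := (CochainComplex.single₀ C).obj A
  injective n := by
    refine Injective.of_iso (IsZero.iso (isZero_zero C) ?_) inferInstance
    cases n with
    | zero => exact h
    | succ n => exact HomologicalComplex.isZero_single_obj_X _ 0 A _ (by omega)
  ι := 𝟙 _

theorem isZero_zeroRes {A : C} (h : IsZero A) : IsZero (zeroRes h).cocomplex :=
  (CochainComplex.single₀ C).map_isZero h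

/-- A resolution of a subobject extends along an inclusion. -/
theorem exists_extend [EnoughInjectives C] {A B : C} (f : A ⟶ B) [Mono f] (I : InjectiveResolution A) :
    ∃ (J : InjectiveResolution B) (φ : I.cocomplex ⟶ J.cocomplex), Mono φ ∧
      I.ι ≫ φ = (CochainComplex.single₀ C).map f ≫ J.ι ∧ (IsIso f → IsIso φ) := by
  classical
  by_cases hf : IsIso f
  · exact ⟨{ cocomplex := I.cocomplex, ι := (CochainComplex.single₀ C).map (inv f) ≫ I.ι }, 𝟙 _, inferInstance,
      by simp, fun _ => inferInstance⟩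
  · have hS : (ShortComplex.mk f (cokernel.π f) (cokernel.condition f)).ShortExact :=
      ShortComplex.ShortExact.mk' (ShortComplex.exact_of_g_is_cokernel _ (cokernelIsCokernel f)) inferInstance inferInstance
    obtain ⟨I₃⟩ : Nonempty (InjectiveResolution (cokernel f)) := ⟨InjectiveResolution.of _⟩
    obtain ⟨T⟩ := Groth.Agent.CommAlg4.InjHorseshoe.nonempty_twist
      (S := ShortComplex.mk f (cokernel.π f) (cokernel.condition f)) I I₃ hS
    refine ⟨Groth.Agent.CommAlg4.InjHorseshoe.res T hS, Groth.Agent.CommAlg4.InjHorseshoe.incl T, ?_, ?_, fun h => absurd h hf⟩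
    · exact (Groth.Agent.CommAlg4.InjHorseshoe.sc_shortExact T).mono_f
    · apply HomologicalComplex.from_single_hom_ext
      apply biprod.hom_ext <;>
        simp [Groth.Agent.CommAlg4.InjHorseshoe.res, Groth.Agent.CommAlg4.InjHorseshoe.incl,
          Groth.Agent.CommAlg4.InjHorseshoe.ι₀]
      exact T.f_h.symm

variable (K : SpSeq.FilObj C)

/-- A filtered resolution of the step `F i` by resolutions of the later steps. -/
def Stage (i : ℤ) : Prop :=
  ∃ (X : InjectiveResolution (K.step i)) (G : ℤ → Subobject X.cocomplex),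
    (∀ j k, i ≤ j → j ≤ k → G k ≤ G j) ∧ G i = ⊤ ∧
    (∀ j, i ≤ j → K.fil j = ⊥ → G j = ⊥) ∧ (∀ j k, i ≤ j → i ≤ k → K.fil j = K.fil k → G j = G k) ∧
    ∀ (j : ℤ) (h : i ≤ j), ∃ (R : InjectiveResolution (K.step j)) (m : R.cocomplex ⟶ X.cocomplex) (_ : Mono m),
      G j = Subobject.mk m ∧ R.ι ≫ m = (CochainComplex.single₀ C).map (K.stepLE h) ≫ X.ι

theorem isZero_step {i : ℤ} (h : K.fil i = ⊥) : IsZero (K.step i) := by
  show IsZero (K.fil i : C)
  rw [h]
  exact IsZero.of_iso (isZero_zero C) Subobject.botCoeIsoZero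

theorem stage_bot {hi : ℤ} (hhi : K.fil hi = ⊥) : Stage K hi := by
  have hz := isZero_step K hhi
  have hX := isZero_zeroRes hz
  have hb : (⊤ : Subobject (zeroRes hz).cocomplex) = ⊥ := by
    rw [Subobject.top_eq_id, Subobject.mk_eq_bot_iff_zero]
    exact hX.eq_of_src _ _
  refine ⟨zeroRes hz, fun _ => ⊤, fun _ _ _ _ => le_rfl, rfl, fun _ _ _ => hb, fun _ _ _ _ _ => rfl, fun j hj => ?_⟩
  have hzj := isZero_step K (le_bot_iff.1 (hhi ▸ K.anti hj))
  haveI : IsIso ((CochainComplex.single₀ C).map (K.stepLE hj)) :=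
    ⟨0, ((CochainComplex.single₀ C).map_isZero hzj).eq_of_src _ _, ((CochainComplex.single₀ C).map_isZero hz).eq_of_src _ _⟩
  refine ⟨zeroRes hzj, (CochainComplex.single₀ C).map (K.stepLE hj), inferInstance, ?_, ?_⟩
  · exact (Subobject.mk_eq_top_of_isIso _).symm
  · show 𝟙 _ ≫ _ = _ ≫ 𝟙 _
    rw [Category.id_comp, Category.comp_id]

theorem stage_step [EnoughInjectives C] {i : ℤ} (h : Stage K (i + 1)) : Stage K i := by
  obtain ⟨X, G, hanti, htop, hbot, heq, hR⟩ := h
  obtain ⟨X', φ, hφ, hι, hiso⟩ := exists_extend (K.stepLE (show i ≤ i + 1 by omega)) X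
  haveI := hφ
  let G' : ℤ → Subobject X'.cocomplex := fun j => if j ≤ i then ⊤ else (Subobject.map φ).obj (G j)
  have hG'i : G' i = ⊤ := if_pos le_rfl
  have hG' : ∀ j, i < j → G' j = (Subobject.map φ).obj (G j) := fun j hj => if_neg (not_le.2 hj)
  have key : ∀ j k, i = j → i < k → K.fil j = K.fil k → G' k = ⊤ := fun j k hj hk hjk => by
    subst hj
    have h1 : K.fil (i + 1) = K.fil i := le_antisymm (K.anti (by omega)) (hjk ▸ K.anti (by omega))
    haveI : IsIso (K.stepLE (show i ≤ i + 1 by omega)) := by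
      refine ⟨(K.fil i).ofLE (K.fil (i + 1)) h1.ge, ?_, ?_⟩ <;> simp [SpSeq.FilObj.stepLE]
    haveI := hiso inferInstance
    rw [hG' k hk, heq k (i + 1) (by omega) le_rfl (by rw [← hjk, h1]), htop, Subobject.top_eq_id, Subobject.map_mk]
    exact Subobject.mk_eq_top_of_isIso _
  refine ⟨X', G', fun j k hj hjk => ?_, hG'i, fun j hj hb => ?_, fun j k hj hk hjk => ?_, fun j hj => ?_⟩
  · rcases hj.lt_or_eq with hlt | rfl
    · rw [hG' j hlt, hG' k (by omega)]
      exact ((Subobject.map φ).map (homOfLE (hanti j k (by omega) hjk))).le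
    · rw [hG'i]; exact le_top
  · rcases hj.lt_or_eq with hlt | rfl
    · rw [hG' j hlt, hbot j (by omega) hb, Subobject.bot_eq_zero, Subobject.map_mk, Subobject.mk_eq_bot_iff_zero]
      exact zero_comp
    · have h1 : K.fil (i + 1) = K.fil i := by
        rw [hb]; exact le_bot_iff.1 (hb ▸ K.anti (by omega))
      have := key i (i + 1) rfl (by omega) h1.symm
      rw [hG' (i + 1) (by omega), hbot (i + 1) le_rfl (h1.trans hb), Subobject.bot_eq_zero, Subobject.map_mk] at this
      rw [hG'i, ← this, Subobject.mk_eq_bot_iff_zero]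
      exact zero_comp
  · rcases hj.lt_or_eq with hj' | rfl <;> rcases hk.lt_or_eq with hk' | hk'
    · rw [hG' j hj', hG' k hk', heq j k (by omega) (by omega) hjk]
    · have e := key i j rfl hj' ((congrArg K.fil hk').trans hjk.symm)
      rw [e, ← show G' i = G' k from congrArg G' hk', hG'i]
    · rw [hG'i, key i k rfl hk' hjk]
    · exact congrArg G' hk'
  · rcases hj.lt_or_eq with hlt | rfl
    · obtain ⟨R, m, hm, hGm, hRm⟩ := hR j (show i + 1 ≤ j by omega)
      refine ⟨R, m ≫ φ, mono_comp _ _, ?_, ?_⟩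
      · rw [hG' j hlt, hGm, Subobject.map_mk]
      · rw [reassoc_of% hRm, hι, ← Functor.map_comp_assoc]
        congr 2
        simp [SpSeq.FilObj.stepLE]
    · refine ⟨X', 𝟙 _, inferInstance, ?_, ?_⟩
      · rw [hG'i, Subobject.top_eq_id]
      · simp [SpSeq.FilObj.stepLE]

theorem exists_filtered [EnoughInjectives C] (hK : K.IsFinite) :
    ∃ (X : InjectiveResolution K.obj) (G : ℤ → Subobject X.cocomplex), Antitone G ∧
      (∀ i : ℤ, K.fil i = ⊤ → G i = ⊤) ∧ (∀ i : ℤ, K.fil i = ⊥ → G i = ⊥) ∧
      ∀ i : ℤ, (∀ j : ℕ, Injective ((G i : CochainComplex C ℕ).X j)) ∧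
        ∃ ι : (CochainComplex.single₀ C).obj (K.step i) ⟶ (G i : CochainComplex C ℕ),
          ι ≫ (G i).arrow = (CochainComplex.single₀ C).map (K.fil i).arrow ≫ X.ι ∧ QuasiIso ι := by
  obtain ⟨⟨a, ha⟩, b, hb⟩ := hK
  have hb' : K.fil (max a b) = ⊥ := le_bot_iff.1 (hb ▸ K.anti (le_max_right a b))
  have hS : Stage K a :=
    Int.leInductionDown (motive := fun n _ => Stage K n) (stage_bot K hb')
      (fun n _ ih => stage_step K (by rwa [sub_add_cancel])) a (le_max_left a b)
  obtain ⟨X, G, hanti, htop, hbot, heq, hR⟩ := hS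
  haveI : IsIso (K.fil a).arrow := Subobject.isIso_arrow_iff_eq_top _ |>.2 ha
  let X₀ : InjectiveResolution K.obj :=
    { cocomplex := X.cocomplex, ι := (CochainComplex.single₀ C).map (inv (K.fil a).arrow) ≫ X.ι }
  have hmax : ∀ i, K.fil (max i a) = K.fil i := fun i => by
    rcases le_total a i with h | h
    · rw [max_eq_left h]
    · rw [max_eq_right h, ha, eq_comm]
      exact top_le_iff.1 (ha ▸ K.anti h)
  refine ⟨X₀, fun i => G (max i a), fun i j hij => hanti _ _ (le_max_right _ _) (max_le_max hij le_rfl),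
    fun i hi => ?_, fun i hi => hbot _ (le_max_right _ _) ((hmax i).trans hi), fun i => ?_⟩
  · exact (heq _ _ (le_max_right _ _) le_rfl ((hmax i).trans (hi.trans ha.symm))).trans htop
  · obtain ⟨R, m, hm, hGm, hRm⟩ := hR (max i a) (le_max_right _ _)
    haveI := hm
    let e : (Subobject.mk m : CochainComplex C ℕ) ≅ R.cocomplex := Subobject.underlyingIso m
    let eG : (G (max i a) : CochainComplex C ℕ) ≅ R.cocomplex := Subobject.isoOfEq _ _ hGm ≪≫ e
    refine ⟨fun j => Injective.of_iso (HomologicalComplex.Hom.isoApp eG.symm j) (R.injective j), ?_⟩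
    let d : K.step i ≅ K.step (max i a) := Subobject.isoOfEq _ _ (hmax i).symm
    refine ⟨(CochainComplex.single₀ C).map d.hom ≫ R.ι ≫ eG.inv, ?_, inferInstance⟩
    have he : eG.inv ≫ (G (max i a)).arrow = m := by
      simp [eG, e]
    have hd : (K.fil i).arrow = d.hom ≫ K.stepLE (le_max_right i a) ≫ (K.fil a).arrow := by
      simp [d, SpSeq.FilObj.stepLE]
    show _ = (CochainComplex.single₀ C).map (K.fil i).arrow ≫
      (CochainComplex.single₀ C).map (inv (K.fil a).arrow) ≫ X.ι
    simp only [Category.assoc]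
    rw [he, hRm, hd, ← Functor.map_comp_assoc, ← Functor.map_comp_assoc, Category.assoc, Category.assoc,
      IsIso.hom_inv_id, Category.comp_id]

end Groth.Agent.HomAlg17.FilRes
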