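import Groth.Agent.HomAlg17.AbCycles
import Groth.Prelude.Def_Formal2

/-!
# The Milnor exact sequence of a tower of complexes of abelian groups
-/

set_option autoImplicit false
set_option backward.isDefEq.respectTransparency false
set_option linter.unusedSectionVars false

universe u

open CategoryTheory CategoryTheory.Limits Opposite

namespace Groth.Agent.HomAlg17

theorem aux_add {G : Type u} [AddCommGroup G] (a b c d : G) : a + b + (c + d) = a + c + (b + d) := add_add_add_comm a b c d

theorem aux_sub {G : Type u} [AddCommGroup G] (D a c t : G) : D + (a - (c - t)) - t = D - c + a := by abel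

variable (K : ℕᵒᵖ ⥤ HomologicalComplex AddCommGrpCat.{u} (ComplexShape.up ℤ))

/-- Transition maps. -/
abbrev tr (n : ℕ) : K.obj (op (n + 1)) ⟶ K.obj (op n) := K.map (homOfLE (Nat.le_succ n)).op

/-- Transition maps on elements. -/
noncomputable abbrev trE (n : ℕ) (q : ℤ) : (K.obj (op (n + 1))).X q →+ (K.obj (op n)).X q := ((tr K n).f q).hom

/-- Projections from the limit on elements. -/
noncomputable abbrev prE (n : ℕ) (q : ℤ) : (limit K).X q →+ (K.obj (op n)).X q := ((limit.π K (op n)).f q).hom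

theorem tr_pr (n : ℕ) (q : ℤ) (x : (limit K).X q) : trE K n q (prE K (n + 1) q x) = prE K n q x := by
  have h := congrArg (fun g => (g.f q).hom x) (limit.w K (homOfLE (Nat.le_succ n)).op)
  exact h

theorem lim_ext (q : ℤ) (x y : (limit K).X q) (h : ∀ n, prE K n q x = prE K n q y) : x = y :=
  Concrete.isLimit_ext _ (isLimitOfPreserves (HomologicalComplex.eval AddCommGrpCat.{u} (ComplexShape.up ℤ) q)
    (limit.isLimit K)) x y fun j => h j.unop

theorem lim_lift (q : ℤ) (x : ∀ n, (K.obj (op n)).X q) (hx : ∀ n, trE K n q (x (n + 1)) = x n) :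
    ∃ y : (limit K).X q, ∀ n, prE K n q y = x n := by
  let G := HomologicalComplex.eval AddCommGrpCat.{u} (ComplexShape.up ℤ) q ⋙ forget AddCommGrpCat.{u}
  have h : IsLimit (G.mapCone (limit.cone K)) := isLimitOfPreserves G (limit.isLimit K)
  have hle : ∀ (m n : ℕ) (hmn : m ≤ n), ((K.map (homOfLE hmn).op).f q).hom (x n) = x m := by
    intro m n hmn
    induction hmn with
    | refl =>
      have : (homOfLE (le_refl m)).op = 𝟙 (op m) := rfl
      rw [this, CategoryTheory.Functor.map_id]
      rfl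
    | @step k hk ih =>
      rw [show (homOfLE (Nat.le.step hk)).op = (homOfLE (Nat.le_succ k)).op ≫ (homOfLE hk).op from rfl, Functor.map_comp,
        HomologicalComplex.comp_f, ConcreteCategory.comp_apply, ← ih]
      congr 1
      exact hx k
  obtain ⟨y, hy, -⟩ := (Types.isLimit_iff _).1 ⟨h⟩ (fun j => x j.unop) (fun {i j} f => hle j.unop i.unop (leOfHom f.unop))
  exact ⟨y, fun n => hy (op n)⟩

theorem d_pr (n : ℕ) {q p : ℤ} (x : (limit K).X q) :
    ((K.obj (op n)).d q p).hom (prE K n q x) = prE K n p (((limit K).d q p).hom x) :=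
  (ConcreteCategory.congr_hom ((limit.π K (op n)).comm q p) x :)

theorem d_tr (n : ℕ) {q p : ℤ} (x : (K.obj (op (n + 1))).X q) :
    ((K.obj (op n)).d q p).hom (trE K n q x) = trE K n p (((K.obj (op (n + 1))).d q p).hom x) :=
  (ConcreteCategory.congr_hom ((tr K n).comm q p) x :)

variable (hK : ∀ (n : ℕ) (q : ℤ), Function.Surjective ((K.map (homOfLE (Nat.le_succ n)).op).f q).hom)

include hK

theorem exists_sol (q : ℤ) (a : ∀ n, (K.obj (op n)).X q) :
    ∃ w : ∀ n, (K.obj (op n)).X q, ∀ n, trE K n q (w (n + 1)) = w n + a n := by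
  let w : ∀ n, (K.obj (op n)).X q := fun n =>
    Nat.rec (motive := fun n => ((K.obj (op n)).X q : Type u)) 0 (fun n wn => (hK n q (wn + a n)).choose) n
  exact ⟨w, fun n => (hK n q (w n + a n)).choose_spec⟩

theorem exists_compatible_cycles {q p : ℤ} (hqp : q + 1 = p) (c : ∀ n, (K.obj (op n)).homology p)
    (hc : ∀ n, (HomologicalComplex.homologyMap (tr K n) p).hom (c (n + 1)) = c n) :
    ∃ z : ∀ n, cyc (K.obj (op n)) p, (∀ n, cl _ p (z n) = c n) ∧ ∀ n, trE K n p (z (n + 1)).1 = (z n).1 := by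
  have step : ∀ (n : ℕ) (z : cyc (K.obj (op n)) p), cl _ p z = c n →
      ∃ z' : cyc (K.obj (op (n + 1))) p, cl _ p z' = c (n + 1) ∧ trE K n p z'.1 = z.1 := by
    intro n z hz
    obtain ⟨z₁, hz₁⟩ := cl_surjective p (c (n + 1))
    have h0 : cl _ p (cycMap (tr K n) p z₁ - z) = 0 := by rw [map_sub, ← cl_map, hz₁, hc, hz, sub_self]
    obtain ⟨w, hw⟩ := (cl_eq_zero_iff hqp _).1 h0
    obtain ⟨w', hw'⟩ := hK n q w
    let b : cyc (K.obj (op (n + 1))) p := ⟨((K.obj (op (n + 1))).d q p).hom w', by
      show ((K.obj (op (n + 1))).d p (p + 1)).hom (((K.obj (op (n + 1))).d q p).hom w') = 0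
      rw [← ConcreteCategory.comp_apply, HomologicalComplex.d_comp_d]; rfl⟩
    refine ⟨z₁ - b, ?_, ?_⟩
    · rw [map_sub, hz₁, (cl_eq_zero_iff hqp b).2 ⟨w', rfl⟩, sub_zero]
    · show trE K n p (z₁.1 - b.1) = z.1
      rw [map_sub, show trE K n p b.1 = ((K.obj (op n)).d q p).hom (trE K n q w') from (d_tr K n w').symm,
        show trE K n q w' = w from hw', hw]
      show trE K n p z₁.1 - (trE K n p z₁.1 - z.1) = z.1
      abel
  let z : ∀ n, { z : cyc (K.obj (op n)) p // cl _ p z = c n } := fun n =>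
    Nat.rec (motive := fun n => { z : cyc (K.obj (op n)) p // cl _ p z = c n })
      ⟨_, (cl_surjective p (c 0)).choose_spec⟩
      (fun n zn => ⟨(step n zn.1 zn.2).choose, (step n zn.1 zn.2).choose_spec.1⟩) n
  exact ⟨fun n => (z n).1, fun n => (z n).2, fun n => (step n (z n).1 (z n).2).choose_spec.2⟩

/-- The relation underlying the map from the tower to the kernel. -/
def Rel (q p : ℤ) (a : ∀ n, cyc (K.obj (op n)) q) (h : (limit K).homology p) : Prop :=
  ∃ (w : ∀ n, (K.obj (op n)).X q) (z : cyc (limit K) p), (∀ n, trE K n q (w (n + 1)) = w n + (a n).1) ∧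
    (∀ n, prE K n p z.1 = ((K.obj (op n)).d q p).hom (w n)) ∧ cl _ p z = h

variable {q p : ℤ} (hqp : q + 1 = p)

include hqp

theorem rel_exists (a : ∀ n, cyc (K.obj (op n)) q) : ∃ h, Rel K q p a h := by
  obtain ⟨w, hw⟩ := exists_sol K hK q fun n => (a n).1
  obtain ⟨z, hz⟩ := lim_lift K p (fun n => ((K.obj (op n)).d q p).hom (w n)) fun n => by
    have ha : ((K.obj (op n)).d q p).hom (a n).1 = 0 := by subst hqp; exact (a n).2
    rw [← d_tr, hw, map_add, ha, add_zero]
  refine ⟨_, w, ⟨z, ?_⟩, hw, hz, rfl⟩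
  refine lim_ext K (p + 1) _ _ fun n => ?_
  rw [← d_pr, hz, ← ConcreteCategory.comp_apply, HomologicalComplex.d_comp_d, map_zero]
  rfl

theorem rel_unique {a : ∀ n, cyc (K.obj (op n)) q} {h h' : (limit K).homology p} (hh : Rel K q p a h)
    (hh' : Rel K q p a h') : h = h' := by
  obtain ⟨w, z, hw, hz, rfl⟩ := hh
  obtain ⟨w', z', hw', hz', rfl⟩ := hh'
  obtain ⟨v, hv⟩ := lim_lift K q (fun n => w n - w' n) fun n => by rw [map_sub, hw, hw']; abel
  refine sub_eq_zero.1 ?_
  rw [← map_sub]
  refine (cl_eq_zero_iff hqp _).2 ⟨v, lim_ext K p _ _ fun n => ?_⟩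
  rw [← d_pr, hv, map_sub, ← hz, ← hz', ← map_sub]
  rfl

omit hK in
theorem rel_add {a a' : ∀ n, cyc (K.obj (op n)) q} {h h' : (limit K).homology p} (hh : Rel K q p a h)
    (hh' : Rel K q p a' h') : Rel K q p (a + a') (h + h') := by
  obtain ⟨w, z, hw, hz, rfl⟩ := hh
  obtain ⟨w', z', hw', hz', rfl⟩ := hh'
  refine ⟨fun n => w n + w' n, z + z', fun n => ?_, fun n => ?_, map_add _ _ _⟩
  · rw [map_add, hw, hw', Pi.add_apply, AddSubgroup.coe_add]; exact aux_add (G := (K.obj (op n)).X q) _ _ _ _
  · rw [AddSubgroup.coe_add, map_add, hz, hz', map_add]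

theorem rel_zero_iff (a : ∀ n, cyc (K.obj (op n)) q) :
    Rel K q p a 0 ↔ (fun n => cl (K.obj (op n)) q (a n)) ∈
      (Formal2.towerDiff (fun n => (K.obj (op n)).homology q)
        (fun n => (HomologicalComplex.homologyMap (tr K n) q).hom)).range := by
  constructor
  · rintro ⟨w, z, hw, hz, h0⟩
    obtain ⟨v, hv⟩ := (cl_eq_zero_iff hqp z).1 h0
    let c : ∀ n, cyc (K.obj (op n)) q := fun n => ⟨w n - prE K n q v, by
      subst hqp
      show ((K.obj (op n)).d q (q + 1)).hom (w n - prE K n q v) = 0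
      rw [map_sub, ← hz, d_pr, hv, sub_self]⟩
    refine ⟨fun n => -cl _ q (c n), funext fun n => ?_⟩
    show -cl _ q (c n) - (HomologicalComplex.homologyMap (tr K n) q).hom (-cl _ q (c (n + 1))) = cl _ q (a n)
    rw [map_neg, cl_map, sub_neg_eq_add, neg_add_eq_iff_eq_add, ← map_add]
    congr 1
    apply Subtype.ext
    show trE K n q (w (n + 1) - prE K (n + 1) q v) = w n - prE K n q v + (a n).1
    rw [map_sub, hw, tr_pr]
    abel
  · rintro ⟨x, hx⟩
    have hsur := fun n => cl_surjective (K := K.obj (op n)) q (x n)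
    choose c hc using hsur
    have hb : ∀ n, ∃ b : (K.obj (op n)).X (q - 1), ((K.obj (op n)).d (q - 1) q).hom b =
        (a n).1 - ((c n).1 - trE K n q (c (n + 1)).1) := fun n => by
      refine (cl_eq_zero_iff (sub_add_cancel q 1) (a n - (c n - cycMap (tr K n) q (c (n + 1))))).1 ?_
      rw [map_sub, map_sub, ← cl_map, hc, hc]
      exact sub_eq_zero.2 (congrFun hx n).symm
    choose b hb using hb
    obtain ⟨β, hβ⟩ := exists_sol K hK (q - 1) b
    refine ⟨fun n => ((K.obj (op n)).d (q - 1) q).hom (β n) - (c n).1, 0, fun n => ?_, fun n => ?_, map_zero _⟩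
    · rw [map_sub, ← d_tr, hβ, map_add, hb]; exact aux_sub (G := (K.obj (op n)).X q) _ _ _ _
    · subst hqp
      rw [map_sub, ← ConcreteCategory.comp_apply, HomologicalComplex.d_comp_d,
        show ((K.obj (op n)).d q (q + 1)).hom (c n).1 = 0 from (c n).2, ZeroMemClass.coe_zero, map_zero]
      simp

theorem milnor :
    Function.Surjective (limit.post K (HomologicalComplex.homologyFunctor _ _ p)).hom ∧
      Nonempty ((limit.post K (HomologicalComplex.homologyFunctor _ _ p)).hom.ker ≃+
        Formal2.limOne (fun n => (K.obj (op n)).homology q)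
          (fun n => (HomologicalComplex.homologyMap (tr K n) q).hom)) := by
  let P := (limit.post K (HomologicalComplex.homologyFunctor AddCommGrpCat.{u} (ComplexShape.up ℤ) p)).hom
  let H := K ⋙ HomologicalComplex.homologyFunctor AddCommGrpCat.{u} (ComplexShape.up ℤ) p
  have hP : ∀ (z : cyc (limit K) p) (n : ℕ), (limit.π H (op n)).hom (P (cl _ p z)) =
      cl _ p (cycMap (limit.π K (op n)) p z) := fun z n => by
    rw [← cl_map]
    exact (ConcreteCategory.congr_hom (limit.post_π K (HomologicalComplex.homologyFunctor AddCommGrpCat.{u} (ComplexShape.up ℤ) p) (op n)) (cl _ p z) :)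
  have hext : ∀ x y : (limit H : AddCommGrpCat.{u}), (∀ n, (limit.π H (op n)).hom x = (limit.π H (op n)).hom y) → x = y :=
    fun x y h => Concrete.isLimit_ext _ (limit.isLimit H) x y fun j => h j.unop
  constructor
  · intro y
    obtain ⟨z, hz₁, hz₂⟩ := exists_compatible_cycles K hK hqp (fun n => (limit.π H (op n)).hom y) fun n =>
      (ConcreteCategory.congr_hom (limit.w H (homOfLE (Nat.le_succ n)).op) y :)
    obtain ⟨Z, hZ⟩ := lim_lift K p (fun n => (z n).1) hz₂
    refine ⟨cl _ p ⟨Z, lim_ext K (p + 1) _ _ fun n => ?_⟩, hext _ _ fun n => ?_⟩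
    · rw [← d_pr, hZ, map_zero]
      exact (z n).2
    · refine (hP _ n).trans ((congrArg _ ?_).trans (hz₁ n))
      exact Subtype.ext (hZ n)
  · let φ : (∀ n, cyc (K.obj (op n)) q) →+ P.ker := AddMonoidHom.mk'
      (fun a => ⟨(rel_exists K hK hqp a).choose, by
        obtain ⟨w, z, -, hz, h⟩ := (rel_exists K hK hqp a).choose_spec
        show P _ = 0
        rw [← h]
        refine hext _ _ fun n => ?_
        rw [hP, map_zero]
        exact (cl_eq_zero_iff hqp _).2 ⟨w n, (hz n).symm⟩⟩)
      fun a a' => Subtype.ext (rel_unique K hK hqp (rel_exists K hK hqp (a + a')).choose_spec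
        (rel_add K hqp (rel_exists K hK hqp a).choose_spec (rel_exists K hK hqp a').choose_spec))
    have hφ : Function.Surjective φ := by
      rintro ⟨h, hh⟩
      obtain ⟨z, rfl⟩ := cl_surjective p h
      have hw : ∀ n, ∃ w : (K.obj (op n)).X q, ((K.obj (op n)).d q p).hom w = prE K n p z.1 := fun n =>
        (cl_eq_zero_iff hqp (cycMap (limit.π K (op n)) p z)).1 (by
          rw [← hP, show P (cl _ p z) = 0 from hh, map_zero])
      choose w hw using hw
      refine ⟨fun n => ⟨trE K n q (w (n + 1)) - w n, ?_⟩, Subtype.ext (rel_unique K hK hqp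
        (rel_exists K hK hqp _).choose_spec ⟨w, z, fun n => ?_, fun n => (hw n).symm, rfl⟩)⟩
      · subst hqp
        show ((K.obj (op n)).d q (q + 1)).hom (trE K n q (w (n + 1)) - w n) = 0
        rw [map_sub, d_tr, hw, hw, tr_pr, sub_self]
      · show trE K n q (w (n + 1)) = w n + (trE K n q (w (n + 1)) - w n)
        abel
    let χ : (∀ n, cyc (K.obj (op n)) q) →+ Formal2.limOne (fun n => (K.obj (op n)).homology q)
        (fun n => (HomologicalComplex.homologyMap (tr K n) q).hom) :=
      (QuotientAddGroup.mk' _).comp (AddMonoidHom.pi fun n => (cl (K.obj (op n)) q).comp (Pi.evalAddMonoidHom _ n))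
    have hχ : Function.Surjective χ := by
      intro y
      obtain ⟨x, rfl⟩ := QuotientAddGroup.mk'_surjective _ y
      have hsur := fun n => cl_surjective (K := K.obj (op n)) q (x n)
      choose c hc using hsur
      exact ⟨c, congrArg (QuotientAddGroup.mk' _) (funext hc)⟩
    have hker : φ.ker = χ.ker := by
      ext a
      rw [AddMonoidHom.mem_ker, AddMonoidHom.mem_ker]
      refine Iff.trans ?_ (QuotientAddGroup.eq_zero_iff _).symm
      refine Iff.trans ?_ (rel_zero_iff K hK hqp a)
      exact ⟨fun h => (show (rel_exists K hK hqp a).choose = 0 from congrArg Subtype.val h) ▸ (rel_exists K hK hqp a).choose_spec,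
        fun h => Subtype.ext (rel_unique K hK hqp (rel_exists K hK hqp a).choose_spec h)⟩
    exact ⟨((QuotientAddGroup.quotientKerEquivOfSurjective φ hφ).symm.trans
      (QuotientAddGroup.quotientAddEquivOfEq hker)).trans (QuotientAddGroup.quotientKerEquivOfSurjective χ hχ)⟩

end Groth.Agent.HomAlg17
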