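import Mathlib

/-!
# Sections and the completions to a nine diagram
-/

set_option autoImplicit false
set_option backward.isDefEq.respectTransparency false
set_option linter.style.haveILetI false
set_option linter.unusedSectionVars false

universe v u

open CategoryTheory CategoryTheory.Limits

namespace Groth.Agent.HomAlg17.Nine

variable {C : Type u} [Category.{v} C] [Abelian C] {A₁ A₂ A₃ B₂ C₁ C₂ C₃ : C}
  (i₁ : A₁ ⟶ A₂) (p₁ : A₂ ⟶ A₃) (wA : i₁ ≫ p₁ = 0) (hA : (ShortComplex.mk i₁ p₁ wA).ShortExact)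
  (i₂ : A₂ ⟶ B₂) (π₂ : B₂ ⟶ C₂) (wB : i₂ ≫ π₂ = 0) (hB : (ShortComplex.mk i₂ π₂ wB).ShortExact)
  (j : C₁ ⟶ C₂) (q : C₂ ⟶ C₃) (wC : j ≫ q = 0) (hC : (ShortComplex.mk j q wC).ShortExact)
  (w : (i₁ ≫ i₂) ≫ (π₂ ≫ q) = 0)



variable {i₁ i₂ π₂ q w} (g : (ShortComplex.mk (i₁ ≫ i₂) (π₂ ≫ q) w).homology ⟶ C₁) (h₃ : (i₁ ≫ i₂) ≫ π₂ = 0)
  (hg : g ≫ j = (ShortComplex.mk (i₁ ≫ i₂) (π₂ ≫ q) w).homologyι ≫ (ShortComplex.mk (i₁ ≫ i₂) (π₂ ≫ q) w).descOpcycles π₂ h₃)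

include hg in
theorem πgj : (ShortComplex.mk (i₁ ≫ i₂) (π₂ ≫ q) w).homologyπ ≫ g ≫ j = (ShortComplex.mk (i₁ ≫ i₂) (π₂ ≫ q) w).iCycles ≫ π₂ := by
  rw [hg]
  exact ((ShortComplex.mk (i₁ ≫ i₂) (π₂ ≫ q) w).homology_π_ι_assoc _).trans (congrArg _ ((ShortComplex.mk (i₁ ≫ i₂) (π₂ ≫ q) w).p_descOpcycles π₂ h₃))

/-- The subobject attached to a section. -/
theorem subobject_eq (s : C₁ ⟶ (ShortComplex.mk (i₁ ≫ i₂) (π₂ ≫ q) w).homology) [Mono s] :
    (Subobject.map (ShortComplex.mk (i₁ ≫ i₂) (π₂ ≫ q) w).iCycles).obj ((Subobject.pullback (ShortComplex.mk (i₁ ≫ i₂) (π₂ ≫ q) w).homologyπ).obj (imageSubobject s)) =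
      Subobject.mk (pullback.snd s (ShortComplex.mk (i₁ ≫ i₂) (π₂ ≫ q) w).homologyπ ≫ (ShortComplex.mk (i₁ ≫ i₂) (π₂ ≫ q) w).iCycles) := by
  rw [imageSubobject_mono, Subobject.pullback_obj_mk (IsPullback.of_hasPullback s (ShortComplex.mk (i₁ ≫ i₂) (π₂ ≫ q) w).homologyπ), Subobject.map_mk]

/-- The completion to a nine diagram. -/
def Good (B₁ : Subobject B₂) : Prop :=
  ∃ (a : A₁ ⟶ (B₁ : C)) (c : (B₁ : C) ⟶ C₁) (wac : a ≫ c = 0)
     (a' : A₃ ⟶ cokernel B₁.arrow) (c' : cokernel B₁.arrow ⟶ C₃) (wac' : a' ≫ c' = 0),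
     a ≫ B₁.arrow = i₁ ≫ i₂ ∧ c ≫ j = B₁.arrow ≫ π₂ ∧ (ShortComplex.mk a c wac).ShortExact ∧
     p₁ ≫ a' = i₂ ≫ cokernel.π B₁.arrow ∧ cokernel.π B₁.arrow ≫ c' = π₂ ≫ q ∧
     (ShortComplex.mk a' c' wac').ShortExact

include hA hB hC in
theorem quotient_row {U : C} (m : U ⟶ B₂) [Mono m] (a : A₁ ⟶ U) (c : U ⟶ C₁) (wac : a ≫ c = 0)
    (hS : (ShortComplex.mk a c wac).ShortExact) (ha : a ≫ m = i₁ ≫ i₂) (hc : c ≫ j = m ≫ π₂) :
    ∃ (a' : A₃ ⟶ cokernel m) (c' : cokernel m ⟶ C₃) (wac' : a' ≫ c' = 0),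
      p₁ ≫ a' = i₂ ≫ cokernel.π m ∧ cokernel.π m ≫ c' = π₂ ≫ q ∧ (ShortComplex.mk a' c' wac').ShortExact := by
  haveI := hA.epi_g
  haveI := hA.mono_f
  haveI := hB.mono_f
  haveI := hC.mono_f
  haveI := hB.epi_g
  haveI := hC.epi_g
  haveI := hS.epi_g
  haveI : Epi p₁ := hA.epi_g
  haveI : Mono i₂ := hB.mono_f
  haveI : Mono j := hC.mono_f
  haveI : Epi π₂ := hB.epi_g
  haveI : Epi q := hC.epi_g
  haveI : Epi c := hS.epi_g
  have h0 : i₁ ≫ i₂ ≫ cokernel.π m = 0 := by rw [← reassoc_of% ha, cokernel.condition, comp_zero]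
  let a' : A₃ ⟶ cokernel m := hA.exact.desc (i₂ ≫ cokernel.π m) h0
  have ha' : p₁ ≫ a' = i₂ ≫ cokernel.π m := hA.exact.g_desc _ _
  let c' : cokernel m ⟶ C₃ := cokernel.desc m (π₂ ≫ q) (by rw [← reassoc_of% hc, wC, comp_zero])
  have hc' : cokernel.π m ≫ c' = π₂ ≫ q := cokernel.π_desc _ _ _
  have wac' : a' ≫ c' = 0 := by
    rw [← cancel_epi p₁, reassoc_of% ha', hc', reassoc_of% wB, zero_comp, comp_zero]
  refine ⟨a', c', wac', ha', hc', ?_⟩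
  haveI : Mono a' := Preadditive.mono_of_cancel_zero _ fun {T} y hy => by
    obtain ⟨T₁, e₁, he₁, a₂, h₁⟩ := surjective_up_to_refinements_of_epi p₁ y
    have h2 : (a₂ ≫ i₂) ≫ cokernel.π m = 0 := by rw [Category.assoc, ← ha', ← reassoc_of% h₁, hy, comp_zero]
    let u := Abelian.monoLift m (a₂ ≫ i₂) h2
    have hu : u ≫ m = a₂ ≫ i₂ := Abelian.monoLift_comp _ _ _
    have hu0 : u ≫ c = 0 := by
      rw [← cancel_mono j, Category.assoc, hc, reassoc_of% hu, wB, comp_zero, zero_comp]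
    haveI : Mono a := hS.mono_f
    let a₁ := hS.exact.lift u hu0
    have h3 : a₂ = a₁ ≫ i₁ := by
      rw [← cancel_mono i₂, ← hu, Category.assoc, ← ha, ← Category.assoc]
      exact congrArg (· ≫ m) (hS.exact.lift_f u hu0).symm
    rw [← cancel_epi e₁, comp_zero, h₁, h3, Category.assoc, wA, comp_zero]
  haveI : Epi c' := epi_of_epi_fac hc'
  have hex : (ShortComplex.mk a' c' wac').Exact := by
    rw [ShortComplex.exact_iff_exact_up_to_refinements]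
    intro T x hx
    dsimp at hx
    obtain ⟨T₁, e₁, he₁, b, h₁⟩ := surjective_up_to_refinements_of_epi (cokernel.π m) x
    have h2 : (b ≫ π₂) ≫ q = 0 := by rw [Category.assoc, ← hc', ← reassoc_of% h₁, hx, comp_zero]
    let c1 := hC.exact.lift (b ≫ π₂) h2
    have hc1 : c1 ≫ j = b ≫ π₂ := hC.exact.lift_f _ _
    obtain ⟨T₂, e₂, he₂, u, hu⟩ := surjective_up_to_refinements_of_epi c c1
    have h4 : (e₂ ≫ b - u ≫ m) ≫ π₂ = 0 := by
      rw [Preadditive.sub_comp, Category.assoc, Category.assoc, ← hc1, reassoc_of% hu, hc, sub_self]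
    let a₂ := hB.exact.lift _ h4
    have ha₂ : a₂ ≫ i₂ = e₂ ≫ b - u ≫ m := hB.exact.lift_f _ _
    refine ⟨T₂, e₂ ≫ e₁, epi_comp _ _, a₂ ≫ p₁, ?_⟩
    show (e₂ ≫ e₁) ≫ x = (a₂ ≫ p₁) ≫ a'
    rw [Category.assoc, Category.assoc, h₁, ha', reassoc_of% ha₂, Preadditive.sub_comp, Category.assoc, Category.assoc,
      cokernel.condition, comp_zero, sub_zero]
  exact ShortComplex.ShortExact.mk' hex ‹_› ‹_›

include hA hB hC hg in
theorem good_iff (B₁ : Subobject B₂) :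
    Good (i₁ := i₁) (i₂ := i₂) (π₂ := π₂) (q := q) p₁ j B₁ ↔
      ∃ s : C₁ ⟶ (ShortComplex.mk (i₁ ≫ i₂) (π₂ ≫ q) w).homology, s ≫ g = 𝟙 C₁ ∧
        (Subobject.map (ShortComplex.mk (i₁ ≫ i₂) (π₂ ≫ q) w).iCycles).obj ((Subobject.pullback (ShortComplex.mk (i₁ ≫ i₂) (π₂ ≫ q) w).homologyπ).obj (imageSubobject s)) = B₁ := by
  haveI : Mono i₁ := hA.mono_f
  haveI : Mono i₂ := hB.mono_f
  haveI : Mono j := hC.mono_f
  constructor
  · rintro ⟨a, c, wac, a', c', wac', ha, hc, hS, -, -, -⟩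
    haveI : Epi c := hS.epi_g
    haveI : Mono a := hS.mono_f
    have h0 : B₁.arrow ≫ π₂ ≫ q = 0 := by rw [← reassoc_of% hc, wC, comp_zero]
    let l := (ShortComplex.mk (i₁ ≫ i₂) (π₂ ≫ q) w).liftCycles B₁.arrow h0
    have hl : l ≫ (ShortComplex.mk (i₁ ≫ i₂) (π₂ ≫ q) w).iCycles = B₁.arrow := (ShortComplex.mk (i₁ ≫ i₂) (π₂ ≫ q) w).liftCycles_i _ _
    have hal : a ≫ l = (ShortComplex.mk (i₁ ≫ i₂) (π₂ ≫ q) w).toCycles := by rw [← cancel_mono (ShortComplex.mk (i₁ ≫ i₂) (π₂ ≫ q) w).iCycles, Category.assoc, hl, ha, (ShortComplex.mk (i₁ ≫ i₂) (π₂ ≫ q) w).toCycles_i]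
    have h1 : a ≫ l ≫ (ShortComplex.mk (i₁ ≫ i₂) (π₂ ≫ q) w).homologyπ = 0 := by rw [reassoc_of% hal, (ShortComplex.mk (i₁ ≫ i₂) (π₂ ≫ q) w).toCycles_comp_homologyπ]
    let s := hS.exact.desc (l ≫ (ShortComplex.mk (i₁ ≫ i₂) (π₂ ≫ q) w).homologyπ) h1
    have hs : c ≫ s = l ≫ (ShortComplex.mk (i₁ ≫ i₂) (π₂ ≫ q) w).homologyπ := hS.exact.g_desc _ _
    have hsg : s ≫ g = 𝟙 C₁ := by
      rw [← cancel_epi c, ← cancel_mono j, reassoc_of% hs, Category.comp_id]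
      simp only [Category.assoc]
      rw [πgj _ g h₃ hg, reassoc_of% hl, hc]
    haveI : IsSplitMono s := IsSplitMono.mk' ⟨g, hsg⟩
    refine ⟨s, hsg, ?_⟩
    rw [subobject_eq]
    let φ := pullback.lift c l hs
    haveI : Mono φ := by
      have : φ ≫ pullback.snd _ _ ≫ (ShortComplex.mk (i₁ ≫ i₂) (π₂ ≫ q) w).iCycles = B₁.arrow := by rw [pullback.lift_snd_assoc, hl]
      exact mono_of_mono_fac this
    haveI : Epi φ := by
      rw [epi_iff_surjective_up_to_refinements]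
      intro T x
      obtain ⟨T₁, e₁, he₁, b, hb⟩ := surjective_up_to_refinements_of_epi c (x ≫ pullback.fst _ _)
      have hd : ((e₁ ≫ x - b ≫ φ) ≫ pullback.snd _ _) ≫ (ShortComplex.mk (i₁ ≫ i₂) (π₂ ≫ q) w).homologyπ = 0 := by
        rw [Category.assoc, ← pullback.condition, ← Category.assoc, Preadditive.sub_comp, Category.assoc,
          Category.assoc, pullback.lift_fst, hb, sub_self, zero_comp]
      obtain ⟨T₂, e₂, he₂, a₁, ha₁⟩ := ((ShortComplex.exact_of_g_is_cokernel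
        (ShortComplex.mk (ShortComplex.mk (i₁ ≫ i₂) (π₂ ≫ q) w).toCycles (ShortComplex.mk (i₁ ≫ i₂) (π₂ ≫ q) w).homologyπ (ShortComplex.mk (i₁ ≫ i₂) (π₂ ≫ q) w).toCycles_comp_homologyπ)
          (ShortComplex.mk (i₁ ≫ i₂) (π₂ ≫ q) w).homologyIsCokernel).exact_up_to_refinements _ hd)
      dsimp at ha₁
      refine ⟨T₂, e₂ ≫ e₁, epi_comp _ _, e₂ ≫ b + a₁ ≫ a, ?_⟩
      apply pullback.hom_ext
      · simp only [Category.assoc, Preadditive.add_comp, φ, pullback.lift_fst]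
        rw [wac, comp_zero, add_zero, hb]
      · simp only [Category.assoc, Preadditive.add_comp, φ, pullback.lift_snd]
        rw [hal, ← ha₁, Preadditive.sub_comp, Preadditive.comp_sub, Category.assoc, Category.assoc, pullback.lift_snd]
        abel
    haveI : IsIso φ := isIso_of_mono_of_epi φ
    exact (Subobject.eq_mk_of_comm _ (asIso φ) (by simp [φ, hl])).symm
  · rintro ⟨s, hs, rfl⟩
    haveI : IsSplitMono s := IsSplitMono.mk' ⟨g, hs⟩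
    rw [subobject_eq]
    let u := pullback.snd s (ShortComplex.mk (i₁ ≫ i₂) (π₂ ≫ q) w).homologyπ
    let v := pullback.fst s (ShortComplex.mk (i₁ ≫ i₂) (π₂ ≫ q) w).homologyπ
    let m := u ≫ (ShortComplex.mk (i₁ ≫ i₂) (π₂ ≫ q) w).iCycles
    let M := Subobject.mk m
    let e := Subobject.underlyingIso m
    let a₀ : A₁ ⟶ pullback s (ShortComplex.mk (i₁ ≫ i₂) (π₂ ≫ q) w).homologyπ := pullback.lift 0 (ShortComplex.mk (i₁ ≫ i₂) (π₂ ≫ q) w).toCycles (by rw [(ShortComplex.mk (i₁ ≫ i₂) (π₂ ≫ q) w).toCycles_comp_homologyπ, zero_comp])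
    let a : A₁ ⟶ (M : C) := a₀ ≫ e.inv
    let c : (M : C) ⟶ C₁ := e.hom ≫ v
    have wac : a ≫ c = 0 := by simp [a, c, a₀, v]
    have hm : M.arrow = e.hom ≫ m := (Subobject.underlyingIso_hom_comp_eq_mk m).symm
    have ha : a ≫ M.arrow = i₁ ≫ i₂ := by rw [hm]; simp [a, a₀, m, u]
    have hvj : v ≫ j = m ≫ π₂ := by
      have h := congrArg (· ≫ g ≫ j) (pullback.condition (f := s) (g := (ShortComplex.mk (i₁ ≫ i₂) (π₂ ≫ q) w).homologyπ))
      simp only [Category.assoc] at h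
      rw [reassoc_of% hs, πgj _ g h₃ hg] at h
      simpa [v, u, m] using h
    have hc : c ≫ j = M.arrow ≫ π₂ := by rw [hm]; simp only [c, Category.assoc]; rw [hvj]
    haveI : Mono a := by
      haveI : Mono (a ≫ M.arrow) := by rw [ha]; exact mono_comp i₁ i₂
      exact mono_of_mono a M.arrow
    haveI : Epi c := by
      haveI : Epi v := inferInstanceAs (Epi (pullback.fst s (ShortComplex.mk (i₁ ≫ i₂) (π₂ ≫ q) w).homologyπ))
      exact epi_comp _ _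
    have hS : (ShortComplex.mk a c wac).ShortExact := by
      refine ShortComplex.ShortExact.mk' ?_ ‹_› ‹_›
      rw [ShortComplex.exact_iff_exact_up_to_refinements]
      intro T x hx
      dsimp at hx
      have h0 : ((x ≫ e.hom) ≫ u) ≫ (ShortComplex.mk (i₁ ≫ i₂) (π₂ ≫ q) w).homologyπ = 0 := by
        simp only [Category.assoc, u]
        rw [← pullback.condition]
        simp only [c, v, ← Category.assoc] at hx ⊢
        rw [hx, zero_comp]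
      obtain ⟨T₁, e₁, he₁, a₁, ha₁⟩ := ((ShortComplex.exact_of_g_is_cokernel
        (ShortComplex.mk (ShortComplex.mk (i₁ ≫ i₂) (π₂ ≫ q) w).toCycles (ShortComplex.mk (i₁ ≫ i₂) (π₂ ≫ q) w).homologyπ (ShortComplex.mk (i₁ ≫ i₂) (π₂ ≫ q) w).toCycles_comp_homologyπ)
          (ShortComplex.mk (i₁ ≫ i₂) (π₂ ≫ q) w).homologyIsCokernel).exact_up_to_refinements _ h0)
      dsimp at ha₁
      refine ⟨T₁, e₁, he₁, a₁, ?_⟩
      rw [← cancel_mono M.arrow, Category.assoc, Category.assoc, ha, hm]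
      simp only [m]
      rw [show x ≫ e.hom ≫ u ≫ (ShortComplex.mk (i₁ ≫ i₂) (π₂ ≫ q) w).iCycles = ((x ≫ e.hom) ≫ u) ≫ (ShortComplex.mk (i₁ ≫ i₂) (π₂ ≫ q) w).iCycles by simp only [Category.assoc],
        ← Category.assoc, ha₁, Category.assoc]
      exact congrArg (a₁ ≫ ·) (ShortComplex.mk (i₁ ≫ i₂) (π₂ ≫ q) w).toCycles_i
    obtain ⟨a', c', wac', h1, h2, h3⟩ := quotient_row p₁ wA hA wB hB j wC hC M.arrow a c wac hS ha hc
    exact ⟨a, c, wac, a', c', wac', ha, hc, hS, h1, h2, h3⟩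

include hC hg in
theorem section_injective (s s' : C₁ ⟶ (ShortComplex.mk (i₁ ≫ i₂) (π₂ ≫ q) w).homology) (hs : s ≫ g = 𝟙 C₁) (hs' : s' ≫ g = 𝟙 C₁)
    (h : (Subobject.map (ShortComplex.mk (i₁ ≫ i₂) (π₂ ≫ q) w).iCycles).obj ((Subobject.pullback (ShortComplex.mk (i₁ ≫ i₂) (π₂ ≫ q) w).homologyπ).obj (imageSubobject s)) =
      (Subobject.map (ShortComplex.mk (i₁ ≫ i₂) (π₂ ≫ q) w).iCycles).obj ((Subobject.pullback (ShortComplex.mk (i₁ ≫ i₂) (π₂ ≫ q) w).homologyπ).obj (imageSubobject s'))) : s = s' := by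
  haveI : Mono j := hC.mono_f
  haveI : IsSplitMono s := IsSplitMono.mk' ⟨g, hs⟩
  haveI : IsSplitMono s' := IsSplitMono.mk' ⟨g, hs'⟩
  rw [subobject_eq, subobject_eq] at h
  let e := Subobject.isoOfMkEqMk _ _ h
  have he : e.hom ≫ pullback.snd s' (ShortComplex.mk (i₁ ≫ i₂) (π₂ ≫ q) w).homologyπ = pullback.snd s (ShortComplex.mk (i₁ ≫ i₂) (π₂ ≫ q) w).homologyπ := by
    rw [← cancel_mono (ShortComplex.mk (i₁ ≫ i₂) (π₂ ≫ q) w).iCycles, Category.assoc]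
    exact Subobject.ofMkLEMk_comp h.le
  have key : ∀ (t : C₁ ⟶ (ShortComplex.mk (i₁ ≫ i₂) (π₂ ≫ q) w).homology), t ≫ g = 𝟙 C₁ →
      pullback.fst t (ShortComplex.mk (i₁ ≫ i₂) (π₂ ≫ q) w).homologyπ ≫ j = pullback.snd t (ShortComplex.mk (i₁ ≫ i₂) (π₂ ≫ q) w).homologyπ ≫ (ShortComplex.mk (i₁ ≫ i₂) (π₂ ≫ q) w).iCycles ≫ π₂ := fun t ht => by
    have h := congrArg (· ≫ g ≫ j) (pullback.condition (f := t) (g := (ShortComplex.mk (i₁ ≫ i₂) (π₂ ≫ q) w).homologyπ))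
    simp only [Category.assoc] at h
    rwa [reassoc_of% ht, πgj _ g h₃ hg] at h
  have hv : e.hom ≫ pullback.fst s' (ShortComplex.mk (i₁ ≫ i₂) (π₂ ≫ q) w).homologyπ = pullback.fst s (ShortComplex.mk (i₁ ≫ i₂) (π₂ ≫ q) w).homologyπ := by
    rw [← cancel_mono j, Category.assoc, key s' hs', key s hs, reassoc_of% he]
  haveI : Epi (pullback.fst s (ShortComplex.mk (i₁ ≫ i₂) (π₂ ≫ q) w).homologyπ) := inferInstance
  rw [← cancel_epi (pullback.fst s (ShortComplex.mk (i₁ ≫ i₂) (π₂ ≫ q) w).homologyπ), pullback.condition, ← he, Category.assoc, ← pullback.condition,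
    reassoc_of% hv]

end Groth.Agent.HomAlg17.Nine
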