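import Mathlib

/-!
# Injective resolutions mapping degreewise split onto a given one
-/

set_option autoImplicit false
set_option backward.isDefEq.respectTransparency false
set_option linter.style.haveILetI false

universe v u

open CategoryTheory CategoryTheory.Limits

namespace Groth.Agent.HomAlg17.SplitRes

variable {C : Type u} [Category.{v} C] [Abelian C] {J I : CochainComplex C ℕ} (b : J ⟶ I)

/-- The complementary summand. -/
noncomputable def K (J I : CochainComplex C ℕ) : ℕ → C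
  | 0 => J.X 0
  | n + 1 => J.X (n + 1) ⊞ I.X n

/-- Its projection to `J`. -/
noncomputable def rK : ∀ n, K J I n ⟶ J.X n
  | 0 => 𝟙 _
  | _ + 1 => biprod.fst

/-- The map to `I` subtracted in the differential. -/
noncomputable def e : ∀ n, K J I n ⟶ I.X n
  | 0 => b.f 0
  | n + 1 => biprod.fst ≫ b.f (n + 1) + biprod.snd ≫ I.d n (n + 1)

theorem e_d (n : ℕ) : e b n ≫ I.d n (n + 1) = rK n ≫ b.f n ≫ I.d n (n + 1) := by
  cases n with
  | zero => exact (Category.id_comp _).symm
  | succ n => simp [e, rK]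

/-- The differential. -/
noncomputable def dd (n : ℕ) : I.X n ⊞ K J I n ⟶ I.X (n + 1) ⊞ K J I (n + 1) :=
  biprod.lift (biprod.fst ≫ I.d n (n + 1))
    (biprod.lift (biprod.snd ≫ rK n ≫ J.d n (n + 1)) (biprod.fst - biprod.snd ≫ e b n))

@[reassoc]
theorem dd_fst (n : ℕ) : dd b n ≫ biprod.fst = biprod.fst ≫ I.d n (n + 1) := by simp [dd]

@[reassoc]
theorem dd_rK (n : ℕ) : dd b n ≫ biprod.snd ≫ rK (n + 1) = biprod.snd ≫ rK n ≫ J.d n (n + 1) := by simp [dd, rK, K]

@[reassoc]
theorem dd_last (n : ℕ) :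
    dd b n ≫ biprod.snd ≫ (biprod.snd : J.X (n + 1) ⊞ I.X n ⟶ I.X n) = biprod.fst - biprod.snd ≫ e b n := by simp [dd, K]

theorem hom_ext' {n : ℕ} {Z : C} (x y : Z ⟶ I.X (n + 1) ⊞ K J I (n + 1)) (h₁ : x ≫ biprod.fst = y ≫ biprod.fst)
    (h₂ : x ≫ biprod.snd ≫ rK (n + 1) = y ≫ biprod.snd ≫ rK (n + 1))
    (h₃ : x ≫ biprod.snd ≫ (biprod.snd : J.X (n + 1) ⊞ I.X n ⟶ I.X n) = y ≫ biprod.snd ≫ biprod.snd) : x = y := by
  apply biprod.hom_ext _ _ h₁
  exact biprod.hom_ext (x ≫ biprod.snd : Z ⟶ J.X (n + 1) ⊞ I.X n) (y ≫ biprod.snd)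
    (by simpa [rK] using h₂) (by simpa using h₃)

theorem dd_comp (n : ℕ) : dd b n ≫ dd b (n + 1) = 0 := by
  apply hom_ext'
  · rw [Category.assoc, dd_fst, dd_fst_assoc, HomologicalComplex.d_comp_d, comp_zero, zero_comp]
  · rw [Category.assoc, dd_rK, dd_rK_assoc, HomologicalComplex.d_comp_d, comp_zero, comp_zero, zero_comp]
  · rw [Category.assoc, dd_last, zero_comp, Preadditive.comp_sub, dd_fst, sub_eq_zero]
    have h : e b (n + 1) = (rK (n + 1) : K J I (n + 1) ⟶ _) ≫ b.f (n + 1) +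
        ((biprod.snd : J.X (n + 1) ⊞ I.X n ⟶ I.X n) ≫ I.d n (n + 1) : K J I (n + 1) ⟶ _) := rfl
    rw [h, Preadditive.comp_add, Preadditive.comp_add, dd_rK_assoc, dd_last_assoc, Preadditive.sub_comp,
      Category.assoc, e_d, ← b.comm]
    abel

/-- The enlarged complex. -/
noncomputable def cx : CochainComplex C ℕ :=
  CochainComplex.of (fun n => I.X n ⊞ K J I n) (dd b) (dd_comp b)

theorem cx_d (n : ℕ) : (cx b).d n (n + 1) = dd b n :=
  CochainComplex.of_d (fun n => I.X n ⊞ K J I n) (dd b) n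

/-- The projection onto `I`. -/
noncomputable def β : cx b ⟶ I where
  f n := biprod.fst
  comm' := by
    rintro i _ rfl
    rw [cx_d]
    exact (dd_fst b i).symm

/-- The section of `rK`. -/
noncomputable def sK : ∀ n, J.X n ⟶ K J I n
  | 0 => 𝟙 _
  | _ + 1 => biprod.inl

@[reassoc]
theorem sK_rK (n : ℕ) : (sK n : J.X n ⟶ K J I n) ≫ rK n = 𝟙 _ := by cases n <;> simp [sK, rK, K]

theorem sK_snd (n : ℕ) : sK (n + 1) ≫ (biprod.snd : J.X (n + 1) ⊞ I.X n ⟶ I.X n) = 0 := biprod.inl_snd

theorem sK_e (n : ℕ) : sK n ≫ e b n = b.f n := by cases n <;> simp [sK, e, K]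

/-- The inclusion of `J`. -/
noncomputable def incl : J ⟶ cx b where
  f n := biprod.lift (b.f n) (sK n)
  comm' := by
    rintro i _ rfl
    rw [cx_d]
    apply hom_ext'
    · rw [Category.assoc, dd_fst]; simp
    · rw [Category.assoc, dd_rK]; simp [sK_rK_assoc, sK_rK]
    · rw [Category.assoc, dd_last, Preadditive.comp_sub]; simp [sK_snd, sK_e]

/-- The retraction onto `J`. -/
noncomputable def retr : cx b ⟶ J where
  f n := biprod.snd ≫ rK n
  comm' := by
    rintro i _ rfl
    rw [cx_d, Category.assoc]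
    exact (dd_rK b i).symm

theorem incl_retr : incl b ≫ retr b = 𝟙 J := by
  ext n
  simp [incl, retr, sK_rK]

theorem incl_β : incl b ≫ β b = b := by
  ext n
  simp [incl, β]

/-- The homotopy. -/
noncomputable def h (n : ℕ) : I.X (n + 1) ⊞ K J I (n + 1) ⟶ I.X n ⊞ K J I n :=
  biprod.snd ≫ (biprod.snd : J.X (n + 1) ⊞ I.X n ⟶ I.X n) ≫ biprod.inl

/-- Contractibility of the added part. -/
noncomputable def homotopy : Homotopy (𝟙 (cx b)) (retr b ≫ incl b) where
  hom i j := if hij : j + 1 = i then eqToHom (by subst hij; rfl) ≫ h j else 0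
  zero i j hij := dif_neg hij
  comm i := by
    rw [Homotopy.dNext_cochainComplex, HomologicalComplex.id_f, HomologicalComplex.comp_f]
    cases i with
    | zero =>
      rw [Homotopy.prevD_zero_cochainComplex, cx_d, dif_pos rfl, eqToHom_refl, Category.id_comp, add_zero]
      show 𝟙 (I.X 0 ⊞ K J I 0) =
        dd b 0 ≫ h 0 + (biprod.snd ≫ rK 0) ≫ biprod.lift (b.f 0) (sK 0)
      rw [h, dd_last_assoc, Preadditive.sub_comp]
      apply biprod.hom_ext <;> simp [e, rK, sK, K]
    | succ i =>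
      rw [Homotopy.prevD_succ_cochainComplex, cx_d, cx_d, dif_pos rfl, dif_pos rfl, eqToHom_refl, eqToHom_refl,
        Category.id_comp, Category.id_comp]
      show 𝟙 (I.X (i + 1) ⊞ K J I (i + 1)) = dd b (i + 1) ≫ h (i + 1) + h i ≫ dd b i +
        (biprod.snd ≫ rK (i + 1)) ≫ biprod.lift (b.f (i + 1)) (sK (i + 1))
      rw [h, h, dd_last_assoc, Preadditive.sub_comp]
      apply hom_ext' <;> simp [e, rK, sK, K, dd]; abel

/-- `J` is homotopy equivalent to the enlarged complex. -/
noncomputable def equiv : HomotopyEquiv J (cx b) where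
  hom := incl b
  inv := retr b
  homotopyHomInvId := Homotopy.ofEq (incl_retr b)
  homotopyInvHomId := (homotopy b).symm

theorem exists_split [EnoughInjectives C] {G F : C} (α : G ⟶ F) (I : InjectiveResolution F) :
    ∃ (J : InjectiveResolution G) (β : J.cocomplex ⟶ I.cocomplex),
      J.ι ≫ β = (CochainComplex.single₀ C).map α ≫ I.ι ∧
      ∀ p : ℕ, ∃ (K : C) (e : J.cocomplex.X p ≅ I.cocomplex.X p ⊞ K), β.f p = e.hom ≫ biprod.fst := by
  obtain ⟨J₀⟩ : Nonempty (InjectiveResolution G) := ⟨InjectiveResolution.of G⟩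
  let b : J₀.cocomplex ⟶ I.cocomplex := InjectiveResolution.desc α I J₀
  haveI : ∀ n, Injective (K J₀.cocomplex I.cocomplex n) := fun n => by
    cases n with
    | zero => exact J₀.injective 0
    | succ n =>
      haveI := J₀.injective (n + 1); haveI := I.injective n
      exact inferInstanceAs (Injective (J₀.cocomplex.X (n + 1) ⊞ I.cocomplex.X n))
  haveI : ∀ n, Injective (I.cocomplex.X n) := I.injective
  haveI : QuasiIso (incl b) := inferInstanceAs (QuasiIso (equiv b).hom)
  refine ⟨{ cocomplex := cx b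
            injective := fun n => inferInstanceAs (Injective (I.cocomplex.X n ⊞ K J₀.cocomplex I.cocomplex n))
            ι := J₀.ι ≫ incl b }, β b, ?_, fun p => ⟨K J₀.cocomplex I.cocomplex p, Iso.refl _, ?_⟩⟩
  · show (J₀.ι ≫ incl b) ≫ β b = _
    rw [Category.assoc, incl_β]
    exact InjectiveResolution.desc_commutes α I J₀
  · exact (Category.id_comp _).symm

end Groth.Agent.HomAlg17.SplitRes
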